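import Groth.Agent.QuotClosed.Main
import Groth.Agent.QuotScheme.Existence
import Groth.Agent.QuotScheme.Props
import Groth.Agent.QuotScheme.BaseChange
import Groth.Agent.SymProdLib.Prod
import Mathlib

/-!
Functorial properties of quotients of schemes by finite groups.
-/

set_option autoImplicit false
set_option linter.style.haveILetI false
set_option backward.isDefEq.respectTransparency false

universe u

open CategoryTheory CategoryTheory.Limits AlgebraicGeometry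
open Groth.Agent.QuotScheme

noncomputable section

namespace Groth.Agent.QuotFunct

variable {G : Type u} [Group G]

/-- A quotient followed by an isomorphism is a quotient. -/
theorem isQuot_comp_isIso {X Y Y' : Scheme.{u}} {ρ : G →* Aut X} {q : X ⟶ Y} (hq : SGA1.IsQuot ρ q) (a : Y ⟶ Y')
    [IsIso a] : SGA1.IsQuot ρ (q ≫ a) := by
  haveI := hq.affine
  refine ⟨inferInstance, fun g => by rw [reassoc_of% (hq.inv g)], fun U => ?_, fun U s => ?_⟩
  · rw [Scheme.Hom.comp_app]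
    exact (hq.injective _).comp (ConcreteCategory.bijective_of_isIso (a.app U)).1
  · refine Iff.trans ?_ (hq.range_iff (a ⁻¹ᵁ U) s)
    rw [Scheme.Hom.comp_app]
    constructor
    · rintro ⟨t, rfl⟩
      exact ⟨(a.app U).hom t, rfl⟩
    · rintro ⟨t, rfl⟩
      obtain ⟨r, rfl⟩ := (ConcreteCategory.bijective_of_isIso (a.app U)).2 t
      exact ⟨r, rfl⟩

/-- The quotient by a normal subgroup, followed by the quotient by the factor group. -/
theorem isQuot_quot [Finite G] {X XG XH : Scheme.{u}} {ρ : G →* Aut X} {p : X ⟶ XG} (hP : SGA1.IsQuot ρ p)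
    (H : Subgroup G) [H.Normal] {pH : X ⟶ XH} (hPH : SGA1.IsQuot (ρ.comp H.subtype) pH) (ρbar : G ⧸ H →* Aut XH)
    (hρbar : ∀ g : G, pH ≫ (ρbar (QuotientGroup.mk g)).hom = (ρ g).hom ≫ pH)
    (r : XH ⟶ XG) (hr : pH ≫ r = p) : SGA1.IsQuot ρbar r := by
  subst hr
  haveI := hP.affine
  haveI : IsAffineHom r := (isAffineHom_iff hPH rfl).1 inferInstance
  haveI : Epi pH := QuotScheme.epi hPH
  have hinv : ∀ g, (ρbar g).hom ≫ r = r := fun g => by
    induction g using QuotientGroup.induction_on with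
    | H g => rw [← cancel_epi pH, reassoc_of% (hρbar g), hP.inv g]
  have hinj : ∀ U, Function.Injective (r.app U).hom := fun U => by
    have h := hP.injective U
    rw [Scheme.Hom.comp_app] at h
    exact Function.Injective.of_comp h
  refine ⟨inferInstance, hinv, hinj, fun U s => ⟨?_, fun h => ?_⟩⟩
  · rintro ⟨t, rfl⟩ g
    rw [Scheme.Hom.app_eq_appLE, ← CommRingCat.comp_apply, Scheme.Hom.appLE_comp_appLE,
      appLE_congr_hom (hinv g) U _ _ (le_refl _)]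
  · obtain ⟨t, ht⟩ := (hP.range_iff U ((pH.app (r ⁻¹ᵁ U)).hom s)).2 fun g => by
      have key : (ρbar (QuotientGroup.mk g)).hom.appLE (r ⁻¹ᵁ U) (r ⁻¹ᵁ U)
            (SGA1.preimage_le_of_inv ρbar r hinv (QuotientGroup.mk g) U) ≫
          pH.appLE (r ⁻¹ᵁ U) (pH ⁻¹ᵁ (r ⁻¹ᵁ U)) le_rfl =
            pH.appLE (r ⁻¹ᵁ U) (pH ⁻¹ᵁ (r ⁻¹ᵁ U)) le_rfl ≫
              (ρ g).hom.appLE (pH ⁻¹ᵁ (r ⁻¹ᵁ U)) (pH ⁻¹ᵁ (r ⁻¹ᵁ U))
                (SGA1.preimage_le_of_inv ρ (pH ≫ r) hP.inv g U) := by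
        rw [Scheme.Hom.appLE_comp_appLE, Scheme.Hom.appLE_comp_appLE]
        exact appLE_congr_hom (hρbar g) _ _ _ _
      rw [Scheme.Hom.app_eq_appLE]
      have := congr($key s)
      rw [CommRingCat.comp_apply, h] at this
      exact this.symm
    refine ⟨t, hPH.injective _ ?_⟩
    rw [← ht, Scheme.Hom.comp_app]
    rfl

/-- The morphism of quotients induced by a stable subscheme is radicial onto the image. -/
theorem universallyInjective_quot [Finite G] {X XG W WG : Scheme.{u}} {ρ : G →* Aut X} {p : X ⟶ XG}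
    (hP : SGA1.IsQuot ρ p) (j : W ⟶ X) [Mono j] {ρW : G →* Aut W} (hρW : ∀ g, (ρW g).hom ≫ j = j ≫ (ρ g).hom)
    {pW : W ⟶ WG} (hPW : SGA1.IsQuot ρW pW) (φ : WG ⟶ XG) (hφ : pW ≫ φ = j ≫ p) :
    UniversallyInjective φ ∧ Set.range φ.base = p.base '' Set.range j.base := by
  refine ⟨GrpdSplit.universallyInjective_of_field_points φ fun K _ a b hab => ?_, ?_⟩
  · let L := AlgebraicClosure K
    let e : Spec (CommRingCat.of L) ⟶ Spec (CommRingCat.of K) := Spec.map (CommRingCat.ofHom (algebraMap K L))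
    haveI : Flat e := by
      rw [HasRingHomProperty.Spec_iff (P := @Flat)]
      exact RingHom.flat_algebraMap_iff.2 inferInstance
    haveI : Surjective e := ⟨fun _ => ⟨IsLocalRing.closedPoint L, Subsingleton.elim _ _⟩⟩
    haveI : Epi e := Flat.epi_of_flat_of_surjective e
    rw [← cancel_epi e]
    obtain ⟨z₁, hz₁⟩ := QuotClosed.exists_lift_point hPW (e ≫ a)
    obtain ⟨z₂, hz₂⟩ := QuotClosed.exists_lift_point hPW (e ≫ b)
    have h : (z₁ ≫ j) ≫ p = (z₂ ≫ j) ≫ p := by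
      rw [Category.assoc, Category.assoc, ← hφ, reassoc_of% hz₁, reassoc_of% hz₂, hab]
    obtain ⟨g, hg⟩ := QuotClosed.exists_translate hP (z₁ ≫ j) (z₂ ≫ j) h
    rw [Category.assoc, ← hρW, ← Category.assoc, cancel_mono] at hg
    rw [← hz₁, ← hz₂, ← hg, Category.assoc, hPW.inv g]
  · ext y
    constructor
    · rintro ⟨x, rfl⟩
      obtain ⟨w, rfl⟩ := QuotScheme.surjective hPW x
      exact ⟨j w, ⟨w, rfl⟩, by rw [← Scheme.Hom.comp_apply, ← hφ, Scheme.Hom.comp_apply]⟩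
    · rintro ⟨_, ⟨w, rfl⟩, rfl⟩
      exact ⟨pW w, by rw [← Scheme.Hom.comp_apply, hφ, Scheme.Hom.comp_apply]⟩

/-- The quotient of a stable open whose translates form a partition. -/
theorem isQuot_open [Finite G] {X XG : Scheme.{u}} {ρ : G →* Aut X} {p : X ⟶ XG} (hP : SGA1.IsQuot ρ p)
    (H : Subgroup G) (Y : X.Opens) (hcov : ∀ x : X, ∃ g : G, x ∈ (ρ g).hom.base '' (Y : Set X))
    (hdisj : ∀ g : G, g ∉ H → Disjoint ((ρ g).hom.base '' (Y : Set X)) (Y : Set X))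
    (ρY : H →* Aut (Y : Scheme.{u})) (hρY : ∀ h : H, (ρY h).hom ≫ Y.ι = Y.ι ≫ (ρ (h : G)).hom) :
    SGA1.IsQuot ρY (Y.ι ≫ p) := by
  classical
  haveI := hP.affine
  have hinvol : ∀ (g : G) (x : X), (ρ g).hom ((ρ g⁻¹).hom x) = x := fun g x => by
    rw [← Scheme.Hom.comp_apply, rho_inv_comp]; rfl
  have hHY : ∀ (h : H) (y : X), y ∈ Y → (ρ (h : G)).hom y ∈ Y := fun h y hy => by
    rw [show (ρ (h : G)).hom y = Y.ι ((ρY h).hom ⟨y, hy⟩) by rw [← Scheme.Hom.comp_apply, hρY h]; rfl]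
    exact ((ρY h).hom ⟨y, hy⟩).2
  haveI : IsClosedImmersion Y.ι := by
    refine IsClosedImmersion.of_isPreimmersion _ ?_
    rw [Scheme.Opens.range_ι, ← isOpen_compl_iff]
    have : (Y : Set X)ᶜ = ⋃ g ∈ {g : G | g ∉ H}, (ρ g).hom.base '' (Y : Set X) := by
      ext x
      simp only [Set.mem_compl_iff, Set.mem_iUnion, Set.mem_setOf_eq, exists_prop]
      constructor
      · intro hx
        obtain ⟨g, y, hy, rfl⟩ := hcov x
        exact ⟨g, fun hg => hx (hHY ⟨g, hg⟩ y hy), y, hy, rfl⟩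
      · rintro ⟨g, hg, hx⟩ hxY
        exact (Set.disjoint_left.1 (hdisj g hg)) hx hxY
    rw [this]
    refine isOpen_biUnion fun g _ => ?_
    exact (Scheme.Hom.isOpenEmbedding (ρ g).hom).isOpenMap _ Y.isOpen
  have hinv : ∀ h : H, (ρY h).hom ≫ Y.ι ≫ p = Y.ι ≫ p := fun h => by
    rw [reassoc_of% (hρY h), hP.inv]
  obtain ⟨Q, q, hq⟩ := exists_isQuot_of_cover ρY fun y => by
    obtain ⟨U, hU, hyU, -⟩ := QuotScheme.exists_affine_nbhd (Y := XG) (O := ⊤) (y := (Y.ι ≫ p) y) trivial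
    exact ⟨(Y.ι ≫ p) ⁻¹ᵁ U, hyU, fun h => SGA1.preimage_le_of_inv ρY (Y.ι ≫ p) hinv h U, hU.preimage _⟩
  obtain ⟨a, ha, -⟩ := existsUnique_desc hq (Y.ι ≫ p) hinv
  let V : G → X.Opens := fun g => (ρ g⁻¹).hom ⁻¹ᵁ Y
  have hV : ⨆ g, V g = ⊤ := by
    rw [eq_top_iff]
    intro x _
    obtain ⟨g, y, hy, rfl⟩ := hcov x
    refine TopologicalSpace.Opens.mem_iSup.2 ⟨g, ?_⟩
    show (ρ g⁻¹).hom ((ρ g).hom y) ∈ Y
    rwa [← Scheme.Hom.comp_apply, show (ρ g).hom ≫ (ρ g⁻¹).hom = 𝟙 X by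
      simpa using rho_inv_comp (ρ := ρ) g⁻¹]
  let 𝒰 : X.OpenCover := X.openCoverOfIsOpenCover V hV
  let F : ∀ g : G, (V g : Scheme.{u}) ⟶ Q := fun g => ((ρ g⁻¹).hom ∣_ Y) ≫ q
  have hcomp : ∀ (g g' : G) {T : Scheme.{u}} (s : T ⟶ (V g : Scheme.{u})) (t : T ⟶ (V g' : Scheme.{u})),
      s ≫ (V g).ι = t ≫ (V g').ι → s ≫ F g = t ≫ F g' := by
    intro g g' T s t hst
    rcases isEmpty_or_nonempty T with hT | ⟨⟨z⟩⟩
    · exact (isInitialOfIsEmpty (X := T)).hom_ext _ _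
    have e : (t ≫ ((ρ g'⁻¹).hom ∣_ Y)) ≫ Y.ι = (s ≫ ((ρ g⁻¹).hom ∣_ Y)) ≫ Y.ι ≫ (ρ (g'⁻¹ * g)).hom := by
      simp only [Category.assoc, morphismRestrict_ι, reassoc_of% (morphismRestrict_ι (ρ g⁻¹).hom Y)]
      rw [rho_mul_hom, reassoc_of% (rho_inv_comp (ρ := ρ) g), ← reassoc_of% hst]
    have hh : g'⁻¹ * g ∈ H := by
      by_contra hh
      have h1 : ((t ≫ ((ρ g'⁻¹).hom ∣_ Y)) ≫ Y.ι) z ∈ (ρ (g'⁻¹ * g)).hom.base '' (Y : Set X) := by
        rw [e]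
        exact ⟨_, ((s ≫ ((ρ g⁻¹).hom ∣_ Y)) z).2, rfl⟩
      exact Set.disjoint_left.1 (hdisj _ hh) h1 ((t ≫ ((ρ g'⁻¹).hom ∣_ Y)) z).2
    have e' : t ≫ ((ρ g'⁻¹).hom ∣_ Y) = (s ≫ ((ρ g⁻¹).hom ∣_ Y)) ≫ (ρY ⟨_, hh⟩).hom := by
      rw [← cancel_mono Y.ι, e]
      simp only [Category.assoc, hρY]
    show s ≫ ((ρ g⁻¹).hom ∣_ Y) ≫ q = t ≫ ((ρ g'⁻¹).hom ∣_ Y) ≫ q
    rw [reassoc_of% e', hq.inv]
  let f : X ⟶ Q := 𝒰.glueMorphisms F fun g g' => hcomp g g' _ _ pullback.condition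
  have hf : ∀ g, (V g).ι ≫ f = F g := fun g => 𝒰.ι_glueMorphisms F _ g
  have hfY : Y.ι ≫ f = q := by
    have hle : Y ≤ V 1 := fun y hy => by
      show (ρ (1 : G)⁻¹).hom y ∈ Y
      rw [inv_one, rho_one_hom]; exact hy
    rw [← X.homOfLE_ι hle, Category.assoc, hf]
    show X.homOfLE hle ≫ ((ρ (1 : G)⁻¹).hom ∣_ Y) ≫ q = q
    rw [← Category.assoc]
    convert Category.id_comp q using 2
    rw [← cancel_mono Y.ι, Category.assoc, morphismRestrict_ι, X.homOfLE_ι_assoc, inv_one, rho_one_hom,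
      Category.comp_id, Category.id_comp]
  have hfinv : ∀ g : G, (ρ g).hom ≫ f = f := fun g => by
    refine 𝒰.hom_ext _ _ fun (g₀ : G) => ?_
    show (V g₀).ι ≫ (ρ g).hom ≫ f = (V g₀).ι ≫ f
    have hle : V g₀ ≤ (ρ g).hom ⁻¹ᵁ V (g * g₀) := fun x hx => by
      show (ρ (g * g₀)⁻¹).hom ((ρ g).hom x) ∈ Y
      rw [mul_inv_rev, rho_mul_hom, Scheme.Hom.comp_apply, ← Scheme.Hom.comp_apply (ρ g).hom (ρ g⁻¹).hom,
        show (ρ g).hom ≫ (ρ g⁻¹).hom = 𝟙 X by simpa using rho_inv_comp (ρ := ρ) g⁻¹]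
      exact hx
    rw [← Category.assoc, ← show Scheme.Hom.resLE (ρ g).hom (V (g * g₀)) (V g₀) hle ≫ (V (g * g₀)).ι =
      (V g₀).ι ≫ (ρ g).hom from Scheme.Hom.resLE_comp_ι _ _, Category.assoc, hf, hf]
    show Scheme.Hom.resLE (ρ g).hom (V (g * g₀)) (V g₀) hle ≫ ((ρ (g * g₀)⁻¹).hom ∣_ Y) ≫ q =
      ((ρ g₀⁻¹).hom ∣_ Y) ≫ q
    rw [← Category.assoc]
    congr 1
    rw [← cancel_mono Y.ι, Category.assoc, morphismRestrict_ι, morphismRestrict_ι,
      Scheme.Hom.resLE_comp_ι_assoc, mul_inv_rev, rho_mul_hom,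
      ← Category.assoc (ρ g).hom, show (ρ g).hom ≫ (ρ g⁻¹).hom = 𝟙 X by simpa using rho_inv_comp (ρ := ρ) g⁻¹,
      Category.id_comp]
  obtain ⟨b, hb, -⟩ := existsUnique_desc hP f hfinv
  haveI : Epi q := QuotScheme.epi hq
  haveI : Epi p := QuotScheme.epi hP
  have hab : a ≫ b = 𝟙 Q := by
    rw [← cancel_epi q, reassoc_of% ha, hb, hfY, Category.comp_id]
  have hba : b ≫ a = 𝟙 XG := by
    rw [← cancel_epi p, reassoc_of% hb, Category.comp_id]
    refine 𝒰.hom_ext _ _ fun g => ?_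
    show (V g).ι ≫ f ≫ a = (V g).ι ≫ p
    rw [← Category.assoc, hf]
    show (((ρ g⁻¹).hom ∣_ Y) ≫ q) ≫ a = _
    rw [Category.assoc, ha, morphismRestrict_ι_assoc, hP.inv]
  haveI : IsIso a := ⟨⟨b, hab, hba⟩⟩
  rw [← ha]
  exact isQuot_comp_isIso hq a

/-- Quotient of a product. -/
theorem isQuot_prod {H : Type u} [Group H] [Finite G] [Finite H] {X Y XG YH S : Scheme.{u}} (fX : X ⟶ S) (fY : Y ⟶ S)
    (gX : XG ⟶ S) (gY : YH ⟶ S) [Flat fY] [Flat gX] (ρ : G →* Aut X) (σ : H →* Aut Y)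
    (hρ : ∀ g, (ρ g).hom ≫ fX = fX) (hσ : ∀ h, (σ h).hom ≫ fY = fY)
    (p : X ⟶ XG) (hp : p ≫ gX = fX) (q : Y ⟶ YH) (hq : q ≫ gY = fY)
    (hP : SGA1.IsQuot ρ p) (hQ : SGA1.IsQuot σ q)
    (θ : G × H →* Aut (pullback fX fY))
    (hθ1 : ∀ gh : G × H, (θ gh).hom ≫ pullback.fst fX fY = pullback.fst fX fY ≫ (ρ gh.1).hom)
    (hθ2 : ∀ gh : G × H, (θ gh).hom ≫ pullback.snd fX fY = pullback.snd fX fY ≫ (σ gh.2).hom)
    (π : pullback fX fY ⟶ pullback gX gY) (hπ1 : π ≫ pullback.fst gX gY = pullback.fst fX fY ≫ p)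
    (hπ2 : π ≫ pullback.snd gX gY = pullback.snd fX fY ≫ q) : SGA1.IsQuot θ π := by
  subst hp hq
  let p₁ : pullback (p ≫ gX) (q ≫ gY) ⟶ pullback gX (q ≫ gY) :=
    pullback.map _ _ _ _ p (𝟙 _) (𝟙 _) (by simp) (by simp)
  let p₂ : pullback gX (q ≫ gY) ⟶ pullback gX gY :=
    pullback.map _ _ _ _ (𝟙 _) q (𝟙 _) (by simp) (by simp)
  let e : H → (pullback gX (q ≫ gY) ⟶ pullback gX (q ≫ gY)) := fun h =>
    pullback.map _ _ _ _ (𝟙 _) (σ h).hom (𝟙 _) (by simp) (by rw [Category.comp_id, hσ h])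
  have e1 : ∀ h, e h ≫ pullback.fst gX (q ≫ gY) = pullback.fst gX (q ≫ gY) := fun h => by simp [e]
  have e2 : ∀ h, e h ≫ pullback.snd gX (q ≫ gY) = pullback.snd gX (q ≫ gY) ≫ (σ h).hom := fun h => by simp [e]
  have emul : ∀ h h', e (h * h') = e h' ≫ e h := fun h h' => by
    apply pullback.hom_ext
    · rw [e1, Category.assoc, e1, e1]
    · rw [e2, Category.assoc, e2, reassoc_of% (e2 h'), rho_mul_hom]
  have eone : e 1 = 𝟙 _ := by
    apply pullback.hom_ext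
    · rw [e1, Category.id_comp]
    · rw [e2, rho_one_hom, Category.comp_id, Category.id_comp]
  let ρ₁ : H →* Aut (pullback gX (q ≫ gY)) :=
    { toFun := fun h => ⟨e h, e h⁻¹, by rw [← emul, inv_mul_cancel, eone], by rw [← emul, mul_inv_cancel, eone]⟩
      map_one' := Iso.ext eone
      map_mul' := fun h h' => Iso.ext (emul h h') }
  haveI : Flat (pullback.fst gX (q ≫ gY)) := inferInstance
  haveI : Flat (pullback.snd gX gY) := inferInstance
  have hp₁fst : p₁ ≫ pullback.fst gX (q ≫ gY) = pullback.fst _ _ ≫ p := by simp [p₁]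
  have hp₁snd : p₁ ≫ pullback.snd gX (q ≫ gY) = pullback.snd _ _ := by simp [p₁]
  have hp₂fst : p₂ ≫ pullback.fst gX gY = pullback.fst _ _ := by simp [p₂]
  have hp₂snd : p₂ ≫ pullback.snd gX gY = pullback.snd _ _ ≫ q := by simp [p₂]
  have h1 : IsPullback (pullback.fst (p ≫ gX) (q ≫ gY)) p₁ p (pullback.fst gX (q ≫ gY)) := by
    refine IsPullback.of_bot ?_ hp₁fst.symm (IsPullback.of_hasPullback gX (q ≫ gY))
    rw [hp₁snd]
    exact IsPullback.of_hasPullback (p ≫ gX) (q ≫ gY)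
  have h2 : IsPullback (pullback.snd gX (q ≫ gY)) p₂ q (pullback.snd gX gY) := by
    refine IsPullback.of_bot ?_ hp₂snd.symm (IsPullback.of_hasPullback gX gY).flip
    rw [hp₂fst]
    exact (IsPullback.of_hasPullback gX (q ≫ gY)).flip
  have q1 : SGA1.IsQuot (θ.comp (MonoidHom.inl G H)) p₁ := by
    refine flat_baseChange hP _ (pullback.fst _ _) p₁ h1 _ (fun g => hθ1 (g, 1)) fun g => ?_
    apply pullback.hom_ext
    · rw [Category.assoc, hp₁fst]
      show (θ (g, 1)).hom ≫ pullback.fst _ _ ≫ p = _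
      rw [reassoc_of% (hθ1 (g, 1)), hP.inv]
    · rw [Category.assoc, hp₁snd]
      show (θ (g, 1)).hom ≫ pullback.snd _ _ = _
      rw [hθ2, rho_one_hom, Category.comp_id]
  have q2 : SGA1.IsQuot ρ₁ p₂ := by
    refine flat_baseChange hQ _ (pullback.snd _ _) p₂ h2 _ (fun h => e2 h) fun h => ?_
    show e h ≫ p₂ = p₂
    apply pullback.hom_ext
    · rw [Category.assoc, hp₂fst, e1]
    · rw [Category.assoc, hp₂snd, reassoc_of% (e2 h), hQ.inv]
  have := SymProdLib.isQuot_comp θ (MonoidHom.inl G H) (MonoidHom.inr G H)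
    (fun gh => ⟨gh.1, gh.2, by simp⟩) q1 q2 fun h => by
      show (θ (1, h)).hom ≫ p₁ = p₁ ≫ e h
      apply pullback.hom_ext
      · rw [Category.assoc, Category.assoc, e1, hp₁fst, reassoc_of% (hθ1 (1, h)), rho_one_hom, Category.id_comp]
      · rw [Category.assoc, Category.assoc, hp₁snd, e2, reassoc_of% hp₁snd, hθ2]
  convert this using 1
  apply pullback.hom_ext
  · rw [hπ1, Category.assoc, hp₂fst, hp₁fst]
  · rw [hπ2, Category.assoc, hp₂snd, reassoc_of% hp₁snd]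

end Groth.Agent.QuotFunct
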